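import Groth.Agent.S8385
import Groth.Agent.LimGrp.Props
import Groth.Prelude.Def_Red
import Mathlib.AlgebraicGeometry.Morphisms.Finite

/-!
# Morphisms out of a finite scheme over a complete local ring, level by level
-/

set_option autoImplicit false
universe u

open CategoryTheory MonoidalCategory CartesianMonoidalCategory MonObj AlgebraicGeometry Limits

noncomputable section

namespace Groth.Agent.FormalHom60

set_option backward.isDefEq.respectTransparency.types false
set_option linter.style.haveILetI false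

/-- A point killed by an ideal factors through the closed subscheme. -/
theorem exists_factor {R B : Type u} [CommRing R] [CommRing B] (I : Ideal R) (β : R →+* B) {X : Scheme.{u}}
    (x : X ⟶ Spec (CommRingCat.of B)) (t : X ⟶ Spec (CommRingCat.of (R ⧸ I)))
    (h : x ≫ Spec.map (CommRingCat.ofHom β) = t ≫ Spec.map (CommRingCat.ofHom (Ideal.Quotient.mk I))) :
    ∃ y : X ⟶ Spec (CommRingCat.of (B ⧸ I.map β)), y ≫ Spec.map (CommRingCat.ofHom (Ideal.Quotient.mk (I.map β))) = x := by
  let ξ : CommRingCat.of B ⟶ Γ(X, ⊤) := (Scheme.ΓSpecIso (CommRingCat.of B)).inv ≫ x.appTop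
  have hξ : ∀ a ∈ I.map β, ξ a = 0 := fun a ha => by
    refine (Ideal.map_le_iff_le_comap.mpr fun r hr => ?_ : I.map β ≤ RingHom.ker ξ.hom) ha
    show ξ (β r) = 0
    have e : CommRingCat.ofHom β ≫ ξ =
        CommRingCat.ofHom (Ideal.Quotient.mk I) ≫ (Scheme.ΓSpecIso (CommRingCat.of (R ⧸ I))).inv ≫ t.appTop := by
      have := congrArg Scheme.Hom.appTop h
      rw [Scheme.Hom.comp_appTop, Scheme.Hom.comp_appTop] at this
      rw [Scheme.ΓSpecIso_inv_naturality_assoc, Scheme.ΓSpecIso_inv_naturality_assoc, this]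
    refine (congr($e r)).trans ?_
    show t.appTop ((Scheme.ΓSpecIso (CommRingCat.of (R ⧸ I))).inv (Ideal.Quotient.mk I r)) = 0
    rw [Ideal.Quotient.eq_zero_iff_mem.mpr hr, map_zero, map_zero]
  refine ⟨X.toSpecΓ ≫ Spec.map (CommRingCat.ofHom (Ideal.Quotient.lift (I.map β) ξ.hom hξ)), ?_⟩
  rw [Category.assoc, ← Spec.map_comp]
  show X.toSpecΓ ≫ Spec.map ξ = x
  rw [Spec.map_comp]
  simp [← Scheme.toSpecΓ_naturality_assoc]

variable {A : Type u} [CommRing A] [IsLocalRing A]

local notation "𝔪" => IsLocalRing.maximalIdeal A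


variable (A) in
/-- The `k`-th thickening of the closed point. -/
abbrev lvl (k : ℕ) : Spec (CommRingCat.of (A ⧸ 𝔪 ^ (k + 1))) ⟶ (Spec (CommRingCat.of A)) :=
  Spec.map (CommRingCat.ofHom (Ideal.Quotient.mk (𝔪 ^ (k + 1))))

variable (A) in
/-- From one thickening to the next. -/
abbrev step (k : ℕ) : Spec (CommRingCat.of (A ⧸ 𝔪 ^ (k + 1))) ⟶ Spec (CommRingCat.of (A ⧸ 𝔪 ^ (k + 1 + 1))) :=
  Spec.map (CommRingCat.ofHom (Ideal.Quotient.factor (Ideal.pow_le_pow_right (Nat.le_succ (k + 1)))))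

lemma step_lvl (k : ℕ) : step A k ≫ lvl A (k + 1) = lvl A k := by
  rw [← Spec.map_comp]; rfl

/-- The morphism underlying a morphism of base changes. -/
abbrev φ {S T : Scheme.{u}} {q : T ⟶ S} {X Y : Over S} (v : Red.bc q X ⟶ Red.bc q Y) :
    pullback X.hom q ⟶ Y.left :=
  v.left ≫ pullback.fst Y.hom q

lemma φ_map {S T : Scheme.{u}} (q : T ⟶ S) {X Y : Over S} (f : X ⟶ Y) :
    φ ((Over.pullback q).map f) = pullback.fst X.hom q ≫ f.left :=
  LimGrp.bc_map_fst q f

/-- Comparison of base changes. -/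
def jmp {S T T' : Scheme.{u}} {q : T ⟶ S} {q' : T' ⟶ S} (t : T' ⟶ T) (w : t ≫ q = q') (X : Over S) :
    pullback X.hom q' ⟶ pullback X.hom q :=
  pullback.lift (pullback.fst X.hom q') (pullback.snd X.hom q' ≫ t) (by
    rw [Category.assoc, w, pullback.condition])

lemma jmp_fst {S T T' : Scheme.{u}} {q : T ⟶ S} {q' : T' ⟶ S} (t : T' ⟶ T) (w : t ≫ q = q') (X : Over S) :
    jmp t w X ≫ pullback.fst X.hom q = pullback.fst X.hom q' :=
  pullback.lift_fst _ _ _

lemma jmp_snd {S T T' : Scheme.{u}} {q : T ⟶ S} {q' : T' ⟶ S} (t : T' ⟶ T) (w : t ≫ q = q') (X : Over S) :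
    jmp t w X ≫ pullback.snd X.hom q = pullback.snd X.hom q' ≫ t :=
  pullback.lift_snd _ _ _

lemma jmp_jmp {S T T' T'' : Scheme.{u}} {q : T ⟶ S} {q' : T' ⟶ S} {q'' : T'' ⟶ S} (t : T' ⟶ T)
    (t' : T'' ⟶ T') (w : t ≫ q = q') (w' : t' ≫ q' = q'') (X : Over S) :
    jmp t' w' X ≫ jmp t w X = jmp (t' ≫ t) (by rw [Category.assoc, w, w']) X := by
  refine pullback.hom_ext ?_ ?_
  · rw [Category.assoc, jmp_fst, jmp_fst, jmp_fst]
  · rw [Category.assoc, jmp_snd, reassoc_of% jmp_snd t' w' X, jmp_snd]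

/-- The restriction of a morphism of base changes to a smaller base. -/
def restr {S T T' : Scheme.{u}} {q : T ⟶ S} {q' : T' ⟶ S} (t : T' ⟶ T) (w : t ≫ q = q') {X Y : Over S}
    (v : Red.bc q X ⟶ Red.bc q Y) : Red.bc q' X ⟶ Red.bc q' Y :=
  (LimGrp.cmp w X).inv ≫ (Over.pullback t).map v ≫ (LimGrp.cmp w Y).hom

lemma φ_restr {S T T' : Scheme.{u}} {q : T ⟶ S} {q' : T' ⟶ S} (t : T' ⟶ T) (w : t ≫ q = q') {X Y : Over S}
    (v : Red.bc q X ⟶ Red.bc q Y) : φ (restr t w v) = jmp t w X ≫ φ v := by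
  have e : (LimGrp.cmp w X).inv.left ≫ pullback.fst (Red.bc q X).hom t = jmp t w X := by
    refine pullback.hom_ext ?_ ?_
    · rw [Category.assoc, jmp_fst, ← LimGrp.cmp_fst w X, ← Category.assoc, ← Over.comp_left,
        Iso.inv_hom_id, Over.id_left]
      exact Category.id_comp _
    · rw [Category.assoc, jmp_snd, show pullback.snd X.hom q = (Red.bc q X).hom from rfl, pullback.condition,
        ← Category.assoc]
      congr 1
      exact Over.w (LimGrp.cmp w X).inv
  show (restr t w v).left ≫ _ = _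
  rw [restr, Over.comp_left, Over.comp_left, Category.assoc, Category.assoc, LimGrp.cmp_fst,
    reassoc_of% LimGrp.bc_map_fst t v, reassoc_of% e]

variable [IsNoetherianRing A] [IsAdicComplete (IsLocalRing.maximalIdeal A) A]

section Finite

variable {M Y : Over (Spec (CommRingCat.of A))} [IsFinite M.hom]

/-- A finite scheme over `A` and its truncations. -/
theorem exists_model (M : Over (Spec (CommRingCat.of A))) [IsFinite M.hom] :
    ∃ (B : Type u) (_ : CommRing B) (_ : Algebra A B) (_ : Module.Finite A B)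
      (e : Spec (CommRingCat.of B) ≅ M.left), e.hom ≫ M.hom = Spec.map (CommRingCat.ofHom (algebraMap A B)) := by
  have : IsAffine M.left := isAffine_of_isAffineHom M.hom
  let α : CommRingCat.of A ⟶ Γ(M.left, ⊤) := Spec.preimage (M.left.isoSpec.inv ≫ M.hom)
  have hα : Spec.map α = M.left.isoSpec.inv ≫ M.hom := Spec.map_preimage _
  letI := α.hom.toAlgebra
  have hfin : IsFinite (Spec.map α) := by rw [hα]; infer_instance
  refine ⟨Γ(M.left, ⊤), inferInstance, inferInstance, (IsFinite.SpecMap_iff _).mp hfin, M.left.isoSpec.symm, ?_⟩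
  exact hα.symm

/-- Morphisms agreeing on every level are equal. -/
theorem eq_of_levels (f g : M ⟶ Y) (h : ∀ k, (Over.pullback (lvl A k)).map f = (Over.pullback (lvl A k)).map g) :
    f = g := by
  obtain ⟨B, _, _, _, e, he⟩ := exists_model M
  suffices H : e.hom ≫ f.left = e.hom ≫ g.left from Over.OverMorphism.ext ((cancel_epi e.hom).mp H)
  refine (S8385.result A B Y).1 _ _ (by rw [Category.assoc, Over.w, he]) (by rw [Category.assoc, Over.w, he]) fun n => ?_
  rcases n with _ | k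
  · have : IsEmpty ↥(Spec (CommRingCat.of (B ⧸ Ideal.map (algebraMap A B) (𝔪 ^ 0)))) := by
      have : Subsingleton (B ⧸ Ideal.map (algebraMap A B) (𝔪 ^ 0)) :=
        Ideal.Quotient.subsingleton_iff.mpr (by simp [Ideal.map_top])
      exact ⟨fun x => x.2.ne_top (Subsingleton.elim _ _)⟩
    exact isInitialOfIsEmpty.hom_ext _ _
  · let ξ : Spec (CommRingCat.of (B ⧸ Ideal.map (algebraMap A B) (𝔪 ^ (k + 1)))) ⟶ pullback M.hom (lvl A k) :=
      pullback.lift (Spec.map (CommRingCat.ofHom (Ideal.Quotient.mk _)) ≫ e.hom)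
        (Spec.map (CommRingCat.ofHom (Ideal.quotientMap _ (algebraMap A B) Ideal.le_comap_map))) (by
          rw [Category.assoc, he, ← Spec.map_comp, ← Spec.map_comp]; rfl)
    have key := congrArg φ (h k)
    rw [φ_map, φ_map] at key
    have := congrArg (ξ ≫ ·) key
    simpa only [ξ, pullback.lift_fst_assoc, Category.assoc] using this

/-- Compatible morphisms of the levels come from a morphism. -/
theorem exists_of_levels (v : ∀ k, Red.bc (lvl A k) M ⟶ Red.bc (lvl A k) Y)
    (hv : ∀ k, jmp (step A k) (step_lvl k) M ≫ φ (v (k + 1)) = φ (v k)) :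
    ∃ f : M ⟶ Y, ∀ k, (Over.pullback (lvl A k)).map f = v k := by
  obtain ⟨B, _, _, _, e, he⟩ := exists_model M
  let ξ : ∀ k, Spec (CommRingCat.of (B ⧸ Ideal.map (algebraMap A B) (𝔪 ^ (k + 1)))) ⟶ pullback M.hom (lvl A k) :=
    fun k => pullback.lift (Spec.map (CommRingCat.ofHom (Ideal.Quotient.mk _)) ≫ e.hom)
        (Spec.map (CommRingCat.ofHom (Ideal.quotientMap _ (algebraMap A B) Ideal.le_comap_map))) (by
          rw [Category.assoc, he, ← Spec.map_comp, ← Spec.map_comp]; rfl)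
  have hempty : IsEmpty ↥(Spec (CommRingCat.of (B ⧸ Ideal.map (algebraMap A B) (𝔪 ^ 0)))) := by
    have : Subsingleton (B ⧸ Ideal.map (algebraMap A B) (𝔪 ^ 0)) :=
      Ideal.Quotient.subsingleton_iff.mpr (by simp [Ideal.map_top])
    exact ⟨fun x => x.2.ne_top (Subsingleton.elim _ _)⟩
  let u : ∀ n, Spec (CommRingCat.of (B ⧸ Ideal.map (algebraMap A B) (𝔪 ^ n))) ⟶ Y.left := fun n =>
    match n with
    | 0 => isInitialOfIsEmpty.to _
    | k + 1 => ξ k ≫ φ (v k)
  have hw : ∀ k, φ (v k) ≫ Y.hom = pullback.snd M.hom (lvl A k) ≫ lvl A k := fun k => by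
    show ((v k).left ≫ pullback.fst Y.hom (lvl A k)) ≫ Y.hom = _
    rw [Category.assoc, pullback.condition, ← Category.assoc]
    exact congrArg (· ≫ lvl A k) (Over.w (v k))
  obtain ⟨f, hf, hfn⟩ := (S8385.result A B Y).2 u (fun n => by
    rcases n with _ | k
    · exact isInitialOfIsEmpty.hom_ext _ _
    · show (ξ k ≫ φ (v k)) ≫ Y.hom = _
      rw [Category.assoc, hw, pullback.lift_snd_assoc, ← Spec.map_comp]
      rfl) (fun n => by
    rcases n with _ | k
    · exact isInitialOfIsEmpty.hom_ext _ _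
    · show Spec.map _ ≫ ξ (k + 1) ≫ φ (v (k + 1)) = ξ k ≫ φ (v k)
      rw [← hv k]
      refine (Category.assoc _ _ _).symm.trans ((congrArg (· ≫ φ (v (k + 1))) ?_).trans (Category.assoc _ _ _))
      refine pullback.hom_ext (f := M.hom) (g := lvl A (k + 1)) ?_ ?_
      · simp only [ξ, Category.assoc, pullback.lift_fst, jmp_fst]
        rw [← Spec.map_comp_assoc]; rfl
      · simp only [ξ, Category.assoc, pullback.lift_snd, jmp_snd]
        rw [pullback.lift_snd_assoc, ← Spec.map_comp, ← Spec.map_comp]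
        congr 1
        ext x
        skip
        rfl)
  let f' : M ⟶ Y := Over.homMk (e.inv ≫ f) (by rw [Category.assoc, hf, ← he, Iso.inv_hom_id_assoc])
  refine ⟨f', fun k => LimGrp.bc_hom_ext ?_⟩
  show φ _ = φ (v k)
  rw [φ_map]
  obtain ⟨y, hy⟩ := exists_factor (𝔪 ^ (k + 1)) (algebraMap A B) (pullback.fst M.hom (lvl A k) ≫ e.inv)
    (pullback.snd M.hom (lvl A k)) (by rw [Category.assoc, ← he, Iso.inv_hom_id_assoc, pullback.condition])
  have hyξ : y ≫ ξ k = 𝟙 _ := by
    have h1 : (y ≫ ξ k) ≫ pullback.fst M.hom (lvl A k) = pullback.fst M.hom (lvl A k) := by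
      simp only [ξ, Category.assoc, pullback.lift_fst]
      rw [← Category.assoc, hy, Category.assoc, Iso.inv_hom_id, Category.comp_id]
    have : IsClosedImmersion (lvl A k) :=
      IsClosedImmersion.spec_of_surjective _ Ideal.Quotient.mk_surjective
    refine pullback.hom_ext (h1.trans (Category.id_comp _).symm) ?_
    rw [Category.id_comp, ← cancel_mono (lvl A k), Category.assoc (y ≫ ξ k), ← pullback.condition,
      ← Category.assoc, h1]
  show pullback.fst M.hom (lvl A k) ≫ e.inv ≫ f = φ (v k)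
  rw [← Category.assoc, ← hy, Category.assoc, hfn (k + 1)]
  show y ≫ ξ k ≫ φ (v k) = φ (v k)
  rw [← Category.assoc, hyξ, Category.id_comp]

end Finite

end Groth.Agent.FormalHom60
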