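import Groth.Agent.FormalHom60.Levels

/-!
# Morphisms agreeing on the thickenings of the closed fibre agree near it
-/

set_option autoImplicit false
universe u

open CategoryTheory AlgebraicGeometry Limits

noncomputable section

namespace Groth.Agent.FormalHom60

set_option backward.isDefEq.respectTransparency.types false
set_option linter.style.haveILetI false

variable {A : Type u} [CommRing A] [IsLocalRing A] [IsNoetherianRing A]

local notation "𝔪" => IsLocalRing.maximalIdeal A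


variable {P Y : Over (Spec (CommRingCat.of A))} [IsLocallyNoetherian P.left] [LocallyOfFiniteType Y.hom]

/-- Agreement of two morphisms on all thickenings of the closed fibre. -/
def AgreeLevels (f g : P ⟶ Y) : Prop :=
  ∀ (k : ℕ) (X : Scheme.{u}) (x : X ⟶ P.left) (t : X ⟶ Spec (CommRingCat.of (A ⧸ 𝔪 ^ (k + 1)))),
    x ≫ P.hom = t ≫ lvl A k → x ≫ f.left = x ≫ g.left

/-- Two morphisms agreeing on all thickenings agree near each point of the closed fibre. -/
theorem exists_nhd_agree {f g : P ⟶ Y} (h : AgreeLevels f g) (p : P.left)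
    (hp : P.hom p = IsLocalRing.closedPoint A) :
    ∃ W : P.left.Opens, p ∈ W ∧ W.ι ≫ f.left = W.ι ≫ g.left := by
  classical
  -- the two images of `p` agree
  have hfg : g.left p = f.left p := by
    let c := P.left.fromSpecResidueField p
    obtain ⟨θ, hθ⟩ := Spec.map_surjective (c ≫ P.hom)
    have hk : ∀ a ∈ 𝔪 ^ (0 + 1), θ a = 0 := fun a ha => by
      have hpt : Spec.map θ (IsLocalRing.closedPoint (P.left.residueField p)) = IsLocalRing.closedPoint A := by
        rw [hθ, Scheme.Hom.comp_apply, Scheme.fromSpecResidueField_apply, hp]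
      have hker : RingHom.ker θ.hom = 𝔪 := by
        have e := congrArg PrimeSpectrum.asIdeal hpt
        change Ideal.comap θ.hom (IsLocalRing.maximalIdeal _) = 𝔪 at e
        rwa [IsLocalRing.maximalIdeal_eq_bot, ← RingHom.ker_eq_comap_bot] at e
      have : a ∈ RingHom.ker θ.hom := by rw [hker]; simpa using ha
      exact this
    have := h 0 _ c (Spec.map (CommRingCat.ofHom (Ideal.Quotient.lift _ θ.hom hk))) (by
      rw [← hθ, ← Spec.map_comp]; rfl)
    have := congr($this (IsLocalRing.closedPoint (P.left.residueField p)))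
    rw [Scheme.Hom.comp_apply, Scheme.Hom.comp_apply, Scheme.fromSpecResidueField_apply] at this
    exact this.symm
  obtain ⟨_, ⟨U, hU, rfl⟩, hyU, -⟩ :=
    Y.left.isBasis_affineOpens.exists_subset_of_mem_open (Set.mem_univ (f.left p)) isOpen_univ
  have hpU : p ∈ (f.left ⁻¹ᵁ U) ⊓ (g.left ⁻¹ᵁ U) := ⟨hyU, show g.left p ∈ U by rw [hfg]; exact hyU⟩
  obtain ⟨_, ⟨V, hV, rfl⟩, hpV, hVU⟩ :=
    P.left.isBasis_affineOpens.exists_subset_of_mem_open hpU ((f.left ⁻¹ᵁ U) ⊓ (g.left ⁻¹ᵁ U)).2
  have lift_to : ∀ (w : P ⟶ Y), (∀ x ∈ V, w.left x ∈ U) →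
      ∃ a : Γ(Y.left, U) ⟶ Γ(P.left, V), Spec.map a ≫ hU.fromSpec = hV.fromSpec ≫ w.left := fun w hw => by
    obtain ⟨a, ha⟩ := Spec.map_surjective (IsOpenImmersion.lift hU.fromSpec (hV.fromSpec ≫ w.left) (by
      rintro _ ⟨z, rfl⟩
      rw [hU.range_fromSpec, Scheme.Hom.comp_apply]
      exact hw _ (hV.range_fromSpec.le ⟨z, rfl⟩)))
    exact ⟨a, by rw [ha, IsOpenImmersion.lift_fac]⟩
  obtain ⟨a, ha⟩ := lift_to f fun x hx => (hVU hx).1
  obtain ⟨b, hb⟩ := lift_to g fun x hx => (hVU hx).2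
  obtain ⟨α, hα⟩ := Spec.map_surjective (hV.fromSpec ≫ P.hom)
  obtain ⟨β, hβ⟩ := Spec.map_surjective (hU.fromSpec ≫ Y.hom)
  have hβa : β ≫ a = α := Spec.map_injective (by
    rw [Spec.map_comp, hβ, ← Category.assoc, ha, Category.assoc, Over.w, hα])
  have hβb : β ≫ b = α := Spec.map_injective (by
    rw [Spec.map_comp, hβ, ← Category.assoc, hb, Category.assoc, Over.w, hα])
  have : IsNoetherianRing Γ(P.left, V) := IsLocallyNoetherian.component_noetherian ⟨V, hV⟩
  let I : Ideal Γ(P.left, V) := (IsLocalRing.maximalIdeal A).map α.hom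
  let pp := hV.primeIdealOf ⟨p, hpV⟩
  have hI : I ≤ pp.asIdeal := by
    refine Ideal.map_le_iff_le_comap.mpr (le_of_eq ?_)
    have e : Spec.map α pp = IsLocalRing.closedPoint A := by
      rw [hα, Scheme.Hom.comp_apply, hV.fromSpec_primeIdealOf, hp]
    exact (congrArg PrimeSpectrum.asIdeal e).symm
  have hkill : ∀ d : Γ(Y.left, U), ∃ h₀ : Γ(P.left, V), h₀ ∉ pp.asIdeal ∧ h₀ * (a d - b d) = 0 := by
    intro d
    have hmem : a d - b d ∈ (⨅ i : ℕ, I ^ i • ⊤ : Submodule Γ(P.left, V) Γ(P.left, V)) := by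
      refine Submodule.mem_iInf _ |>.mpr fun i => ?_
      rcases i with _ | k
      · simp
      rw [smul_eq_mul, Ideal.mul_top, ← Ideal.map_pow]
      let π : Γ(P.left, V) →+* Γ(P.left, V) ⧸ Ideal.map α.hom (𝔪 ^ (k + 1)) := Ideal.Quotient.mk _
      have e := h k _ (Spec.map (CommRingCat.ofHom π) ≫ hV.fromSpec)
        (Spec.map (CommRingCat.ofHom (Ideal.quotientMap _ α.hom Ideal.le_comap_map))) (by
          rw [Category.assoc, ← hα, ← Spec.map_comp, ← Spec.map_comp]; rfl)
      rw [Category.assoc, Category.assoc, ← ha, ← hb, ← Spec.map_comp_assoc, ← Spec.map_comp_assoc,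
        cancel_mono] at e
      have := congr($(Spec.map_injective e) d)
      exact Ideal.Quotient.eq.mp this
    obtain ⟨r, hr⟩ := (I.mem_iInf_smul_pow_eq_bot_iff _).mp hmem
    refine ⟨1 - r.1, fun h1 => ?_, by rw [smul_eq_mul] at hr; rw [sub_mul, one_mul, hr, sub_self]⟩
    exact pp.2.ne_top ((Ideal.eq_top_iff_one _).mpr (by simpa using add_mem h1 (hI r.2)))
  choose h₀ hh₀ hh₀' using hkill
  have hft : β.hom.FiniteType := by
    have : LocallyOfFiniteType (Spec.map β) := by rw [hβ]; infer_instance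
    exact HasRingHomProperty.Spec_iff.mp this
  algebraize [β.hom]
  obtain ⟨s, hs⟩ := ‹Algebra.FiniteType A Γ(Y.left, U)›.out
  let h : Γ(P.left, V) := ∏ d ∈ s, h₀ d
  have hh : h ∉ pp.asIdeal := fun hmem => by
    obtain ⟨d, -, hd⟩ := pp.2.prod_mem_iff.mp hmem
    exact hh₀ d hd
  let L := Localization.Away h
  let l : Γ(P.left, V) →+* L := algebraMap _ _
  have hu : ∀ d ∈ s, l (a d) = l (b d) := fun d hd => by
    have hu : IsUnit (l (h₀ d)) :=
      isUnit_of_dvd_unit (map_dvd l (Finset.dvd_prod_of_mem _ hd)) (IsLocalization.Away.algebraMap_isUnit h)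
    rw [← sub_eq_zero, ← map_sub, ← hu.mul_right_eq_zero, ← map_mul, hh₀', map_zero]
  have hab : l.comp a.hom = l.comp b.hom := by
    refine RingHom.ext fun d => ?_
    let S₀ : Subalgebra A Γ(Y.left, U) :=
      { carrier := {d | l (a d) = l (b d)}
        mul_mem' := fun {x y} hx hy => by
          show l (a (x * y)) = l (b (x * y))
          rw [map_mul, map_mul, map_mul, map_mul, hx, hy]
        add_mem' := fun {x y} hx hy => by
          show l (a (x + y)) = l (b (x + y))
          rw [map_add, map_add, map_add, map_add, hx, hy]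
        algebraMap_mem' := fun r => by
          show l ((β ≫ a) r) = l ((β ≫ b) r)
          rw [hβa, hβb] }
    have : d ∈ Algebra.adjoin A (s : Set Γ(Y.left, U)) := by rw [hs]; trivial
    exact (Algebra.adjoin_le (S := S₀) hu) this
  let j : Spec (CommRingCat.of L) ⟶ P.left := Spec.map (CommRingCat.ofHom l) ≫ hV.fromSpec
  have : IsOpenImmersion (Spec.map (CommRingCat.ofHom l)) :=
    IsOpenImmersion.of_isLocalization (S := L) h
  have hj : j ≫ f.left = j ≫ g.left := by
    rw [Category.assoc, Category.assoc, ← ha, ← hb, ← Spec.map_comp_assoc, ← Spec.map_comp_assoc]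
    congr 2
    exact CommRingCat.hom_ext hab
  refine ⟨j.opensRange, ?_, ?_⟩
  · obtain ⟨z, hz⟩ : pp ∈ Set.range (PrimeSpectrum.comap l) := by
      rw [PrimeSpectrum.localization_away_comap_range L h]
      exact hh
    refine ⟨z, ?_⟩
    show hV.fromSpec (Spec.map (CommRingCat.ofHom l) z) = p
    rw [show Spec.map (CommRingCat.ofHom l) z = pp from hz, hV.fromSpec_primeIdealOf]
  · rw [← cancel_epi j.isoOpensRange.hom]
    simpa only [Scheme.Hom.isoOpensRange_hom_ι_assoc] using hj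

/-- The largest open of agreement contains the closed fibre. -/
theorem exists_open_agree {f g : P ⟶ Y} (h : AgreeLevels f g) :
    ∃ W : P.left.Opens, (∀ p, P.hom p = IsLocalRing.closedPoint A → p ∈ W) ∧ W.ι ≫ f.left = W.ι ≫ g.left := by
  choose W hW he using exists_nhd_agree h
  refine ⟨⨆ (p : P.left) (hp : P.hom p = IsLocalRing.closedPoint A), W p hp,
    fun p hp => TopologicalSpace.Opens.mem_iSup.mpr ⟨p, TopologicalSpace.Opens.mem_iSup.mpr ⟨hp, hW p hp⟩⟩, ?_⟩
  refine Scheme.hom_ext_of_forall _ _ fun x => ?_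
  obtain ⟨p, hxp⟩ := TopologicalSpace.Opens.mem_iSup.mp x.2
  obtain ⟨hp, hxp⟩ := TopologicalSpace.Opens.mem_iSup.mp hxp
  let Wbig : P.left.Opens := ⨆ (p : P.left) (hp : P.hom p = IsLocalRing.closedPoint A), W p hp
  have hle : W p hp ≤ Wbig := le_iSup₂_of_le p hp le_rfl
  refine ⟨Wbig.ι ⁻¹ᵁ W p hp, hxp, ?_⟩
  have hr : Set.range ((Wbig.ι ⁻¹ᵁ W p hp).ι ≫ Wbig.ι) ⊆ Set.range (W p hp).ι := by
    rw [Scheme.Opens.range_ι]
    rintro _ ⟨z, rfl⟩
    exact z.2
  show (Wbig.ι ⁻¹ᵁ W p hp).ι ≫ Wbig.ι ≫ f.left = (Wbig.ι ⁻¹ᵁ W p hp).ι ≫ Wbig.ι ≫ g.left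
  rw [← Category.assoc, ← Category.assoc, ← IsOpenImmersion.lift_fac (W p hp).ι _ hr, Category.assoc, Category.assoc, he p hp]

end Groth.Agent.FormalHom60
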